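import Groth.Agent.ResProp.K234.TopVan
import Groth.Agent.Sga2lef.H104.StalkHom
import Groth.Agent.CycB.CohStalk
import Groth.Agent.CycB.PushLen
import Groth.Agent.S0019
import Mathlib.LinearAlgebra.Dual.Lemmas

/-!
# Evaluation maps onto modules supported on an integral closed subscheme (job 134)

`exists_eval`: on a Noetherian scheme `X`, for a coherent `P` with nonzero stalk at the generic point of an
integral closed subscheme `i : Z ⟶ X` and a coherent `I` on `Z`, there is a coherent `H` and a map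
`P ⊗ H ⟶ i_* I` which is surjective at the generic point of `Z`. One takes `H = Hom(P, i_* I)` and the
evaluation map.
-/

set_option autoImplicit false
universe u

open CategoryTheory Limits Opposite TopologicalSpace AlgebraicGeometry K234.DimProper K234.TopVan

namespace K798.ResEval

open Groth.Agent.CohqB.HomSheaf Groth.Agent.Sga2.PnHomAdj Groth.Agent.CycB.StalkExact
open Groth.Agent.Ega2.Tens

/-- A nonzero finite module over a local ring surjects, at a suitable element, onto any element killed by the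
maximal ideal. -/
theorem exists_map_of_maximalIdeal_smul {R : Type*} [CommRing R] [IsLocalRing R] {M N : Type*}
    [AddCommGroup M] [Module R M] [Module.Finite R M] [Nontrivial M] [AddCommGroup N] [Module R N] (g : N)
    (hg : ∀ r ∈ IsLocalRing.maximalIdeal R, r • g = 0) :
    ∃ (u : M →ₗ[R] N) (x : M), u x = g := by
  have hne : (IsLocalRing.maximalIdeal R) • (⊤ : Submodule R M) ≠ ⊤ := by
    intro h
    exact top_ne_bot (α := Submodule R M) (Submodule.eq_bot_of_le_smul_of_le_jacobson_bot _ _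
      (Module.Finite.fg_top) h.ge (IsLocalRing.maximalIdeal_le_jacobson ⊥))
  obtain ⟨x, hx⟩ : ∃ x : M, x ∉ (IsLocalRing.maximalIdeal R) • (⊤ : Submodule R M) := by
    by_contra h
    push Not at h
    exact hne (eq_top_iff.mpr fun x _ => h x)
  let I := IsLocalRing.maximalIdeal R
  let K := R ⧸ I
  let : Field K := Ideal.Quotient.field I
  let V := M ⧸ (I • (⊤ : Submodule R M))
  let v : V := Submodule.Quotient.mk x
  have hv : v ≠ 0 := fun h => hx ((Submodule.Quotient.mk_eq_zero _).mp h)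
  obtain ⟨φ, hφ⟩ : ∃ φ : Module.Dual K V, φ v ≠ 0 := by
    by_contra h
    push Not at h
    exact hv ((Module.forall_dual_apply_eq_zero_iff K v).mp h)
  let ℓ : V →ₗ[R] K := ((φ v)⁻¹ • φ).restrictScalars R
  have hℓ : ℓ v = 1 := by
    change (φ v)⁻¹ * φ v = 1
    exact inv_mul_cancel₀ hφ
  let w : K →ₗ[R] N := Submodule.liftQ I (LinearMap.toSpanSingleton R N g) (fun r hr => by
    rw [LinearMap.mem_ker, LinearMap.toSpanSingleton_apply]
    exact hg r hr)
  have hw : w 1 = g := by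
    change w (Submodule.Quotient.mk 1) = g
    change (LinearMap.toSpanSingleton R N g) 1 = g
    rw [LinearMap.toSpanSingleton_apply, one_smul]
  refine ⟨w ∘ₗ ℓ ∘ₗ Submodule.mkQ _, x, ?_⟩
  change w (ℓ v) = g
  rw [hℓ, hw]

/-- The stalk of `i_* I` at the generic point of the integral closed subscheme `Z` is killed by the maximal
ideal. -/
theorem smul_push_stalk_eq_zero {X Z : Scheme.{u}} (i : Z ⟶ X) [IsIntegral Z] (I : Z.Modules)
    (r : X.presheaf.stalk (i (genericPoint Z)))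
    (hr : r ∈ IsLocalRing.maximalIdeal (X.presheaf.stalk (i (genericPoint Z))))
    (g : ((Coh.push i).obj I).presheaf.stalk (i (genericPoint Z))) : r • g = 0 := by
  obtain ⟨V₁, hV₁, r, rfl⟩ := TopCat.Presheaf.exists_germ_eq X.presheaf r
  obtain ⟨V₂, hV₂, g, rfl⟩ := TopCat.Presheaf.exists_germ_eq ((Coh.push i).obj I).presheaf g
  have e1 : X.presheaf.germ (V₁ ⊓ V₂) _ ⟨hV₁, hV₂⟩
      (X.presheaf.map (homOfLE (inf_le_left : V₁ ⊓ V₂ ≤ V₁)).op r) = X.presheaf.germ V₁ _ hV₁ r :=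
    TopCat.Presheaf.germ_res_apply X.presheaf _ _ _ r
  have e2 : ((Coh.push i).obj I).presheaf.germ (V₁ ⊓ V₂) _ ⟨hV₁, hV₂⟩
      (((Coh.push i).obj I).presheaf.map (homOfLE (inf_le_right : V₁ ⊓ V₂ ≤ V₂)).op g) =
      ((Coh.push i).obj I).presheaf.germ V₂ _ hV₂ g :=
    TopCat.Presheaf.germ_res_apply ((Coh.push i).obj I).presheaf _ _ _ g
  rw [← e1] at hr ⊢
  rw [← e2]
  generalize X.presheaf.map (homOfLE (inf_le_left : V₁ ⊓ V₂ ≤ V₁)).op r = r' at hr ⊢
  generalize ((Coh.push i).obj I).presheaf.map (homOfLE (inf_le_right : V₁ ⊓ V₂ ≤ V₂)).op g = g'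
  have hV : i (genericPoint Z) ∈ V₁ ⊓ V₂ := ⟨hV₁, hV₂⟩
  have h1 : Z.presheaf.germ (i ⁻¹ᵁ (V₁ ⊓ V₂)) (genericPoint Z) hV (i.app (V₁ ⊓ V₂) r') = 0 := by
    have h2 : (i.stalkMap (genericPoint Z)).hom (X.presheaf.germ (V₁ ⊓ V₂) _ hV r') =
        Z.presheaf.germ (i ⁻¹ᵁ (V₁ ⊓ V₂)) (genericPoint Z) hV (i.app (V₁ ⊓ V₂) r') :=
      congr($(Scheme.Hom.germ_stalkMap i (V₁ ⊓ V₂) (genericPoint Z) hV) r')
    rw [← h2]
    by_contra h3
    have h4 : IsUnit ((i.stalkMap (genericPoint Z)).hom (X.presheaf.germ (V₁ ⊓ V₂) _ hV r')) :=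
      IsUnit.mk0 (G₀ := Z.functionField) _ h3
    exact (IsLocalRing.mem_maximalIdeal _).mp hr (isUnit_of_map_unit _ _ h4)
  have h5 : i.app (V₁ ⊓ V₂) r' = 0 := by
    have hne : Nonempty (i ⁻¹ᵁ (V₁ ⊓ V₂)) := ⟨⟨genericPoint Z, hV⟩⟩
    refine (Scheme.germToFunctionField_injective Z (i ⁻¹ᵁ (V₁ ⊓ V₂))) ?_
    rw [map_zero]
    exact h1
  rw [← germ_smul (M := (Coh.push i).obj I)]
  have h6 : r' • g' = 0 := by
    change (i.app (V₁ ⊓ V₂) r') • (show Γ(I, i ⁻¹ᵁ (V₁ ⊓ V₂)) from g') = 0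
    rw [h5, zero_smul]
  rw [h6, map_zero]

/-- **EVAL.** -/
theorem exists_eval {X : Scheme.{u}} [IsNoetherian X] (P : X.Modules) (hP : Coh.IsCoh P)
    {Z : Scheme.{u}} (i : Z ⟶ X) [IsClosedImmersion i] [IsIntegral Z] (I : Z.Modules) (hI : Coh.IsCoh I)
    (hne : Nontrivial (P.presheaf.stalk (i (genericPoint Z)))) :
    ∃ (H : X.Modules) (φ : CohB1.tensorMod P H ⟶ (Coh.push i).obj I),
      Coh.IsCoh H ∧ Subsingleton ((cokernel φ).presheaf.stalk (i (genericPoint Z))) := by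
  have hG : Coh.IsCoh ((Coh.push i).obj I) := Groth.Agent.S0019.result i I hI
  refine ⟨homSheaf P ((Coh.push i).obj I), uncurry (𝟙 _), isCoh_homSheaf hP hG, ?_⟩
  rw [Groth.Agent.VarietyA.StalkCrit.subsingleton_cokernel_stalk_iff]
  intro g
  obtain ⟨U, hU, hξ, -⟩ := Opens.isBasis_iff_nbhd.mp X.isBasis_affineOpens
    (show i (genericPoint Z) ∈ (⊤ : X.Opens) from trivial)
  have hfin : Module.Finite (X.presheaf.stalk (i (genericPoint Z))) (P.presheaf.stalk (i (genericPoint Z))) :=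
    Groth.Agent.CycB.CohStalk.finite_stalk P hP _
  obtain ⟨u, x, hux⟩ := exists_map_of_maximalIdeal_smul (R := X.presheaf.stalk (i (genericPoint Z)))
    (M := P.presheaf.stalk (i (genericPoint Z))) g (fun r hr => smul_push_stalk_eq_zero i I r hr g)
  obtain ⟨e, he⟩ := Groth.Agent.Sga2lef.H104.StalkHom.exists_equiv hP hG hU (i (genericPoint Z)) hξ
  obtain ⟨a, s, ha, hs⟩ := Groth.Agent.Fdesc.QCohStalk.exists_germ_eq_smul
    (homSheaf P ((Coh.push i).obj I)) hU (isCoh_homSheaf hP hG).1 _ hξ (e.symm u)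
  obtain ⟨b, m, hb, hm⟩ := Groth.Agent.Fdesc.QCohStalk.exists_germ_eq_smul P hU hP.1 _ hξ x
  have ha' : IsUnit (X.presheaf.germ U _ hξ a) := (X.mem_basicOpen a _ hξ).mp ha
  have hb' : IsUnit (X.presheaf.germ U _ hξ b) := (X.mem_basicOpen b _ hξ).mp hb
  have key : stalkLin (uncurry (𝟙 (homSheaf P ((Coh.push i).obj I)))) (i (genericPoint Z))
      ((CohB1.tensorMod P (homSheaf P ((Coh.push i).obj I))).presheaf.germ U _ hξ (tmul m s)) =
      X.presheaf.germ U _ hξ b • X.presheaf.germ U _ hξ a • g := by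
    rw [stalkLin_germ, uncurry_tmul]
    have h1 := he s m
    rw [hs, hm, map_smul, map_smul, LinearEquiv.apply_symm_apply, LinearMap.smul_apply, hux] at h1
    exact h1.symm
  obtain ⟨a', ha'⟩ := ha'
  obtain ⟨b', hb'⟩ := hb'
  rw [← ha', ← hb'] at key
  refine ⟨(↑a'⁻¹ : X.presheaf.stalk (i (genericPoint Z))) • (↑b'⁻¹ : X.presheaf.stalk (i (genericPoint Z))) •
    ((CohB1.tensorMod P (homSheaf P ((Coh.push i).obj I))).presheaf.germ U _ hξ (tmul m s)), ?_⟩
  rw [map_smul, map_smul, key, smul_smul, smul_smul, smul_smul]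
  have h7 : (↑a'⁻¹ : X.presheaf.stalk (i (genericPoint Z))) * (↑b'⁻¹ * (↑b' * ↑a')) = 1 := by
    rw [← mul_assoc (↑b'⁻¹ : X.presheaf.stalk (i (genericPoint Z))), Units.inv_mul, one_mul, Units.inv_mul]
  first
    | rw [h7, one_smul]
    | (simp only [mul_assoc]; rw [h7, one_smul])

end K798.ResEval
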